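import Cfsg.Agent.OD.Pre
import Cfsg.Agent.H6.Top2
import Cfsg.Agent.H3.HxMA.D0
set_option autoImplicit false
set_option maxRecDepth 100000
set_option Elab.async false
set_option linter.all false
namespace CfH6.HxMA
open CfH6 MulAction
noncomputable def n0_0 : Net := mkNet (nat_lit 768) [(nat_lit 384, k0), (nat_lit 192, k1), (nat_lit 96, k2), (nat_lit 48, k3), (nat_lit 24, k4), (nat_lit 12, k5), (nat_lit 6, k6), (nat_lit 3, k7)] [(k8, nat_lit 1), (k9, nat_lit 1), (k10, nat_lit 1)]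
noncomputable def n0_1 : Net := mkNet (nat_lit 768) [(nat_lit 384, k11), (nat_lit 192, k12), (nat_lit 96, k13), (nat_lit 48, k14), (nat_lit 24, k15), (nat_lit 12, k16), (nat_lit 6, k17), (nat_lit 3, k18)] [(k19, nat_lit 1), (k20, nat_lit 1), (k21, nat_lit 1)]
noncomputable def n0_2 : Net := mkNet (nat_lit 768) [(nat_lit 384, k22), (nat_lit 192, k23), (nat_lit 96, k24), (nat_lit 48, k25), (nat_lit 24, k26), (nat_lit 12, k27), (nat_lit 6, k28), (nat_lit 3, k29)] [(k30, nat_lit 1), (k31, nat_lit 1), (k32, nat_lit 1)]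
noncomputable def n0_3 : Net := mkNet (nat_lit 768) [(nat_lit 384, k33), (nat_lit 192, k34), (nat_lit 96, k35), (nat_lit 48, k36), (nat_lit 24, k37), (nat_lit 12, k38), (nat_lit 6, k39), (nat_lit 3, k40)] [(k41, nat_lit 1), (k42, nat_lit 1), (k43, nat_lit 1)]
noncomputable def n0_4 : Net := mkNet (nat_lit 768) [(nat_lit 384, k44), (nat_lit 192, k45), (nat_lit 96, k46), (nat_lit 48, k47), (nat_lit 24, k48), (nat_lit 12, k49), (nat_lit 6, k50), (nat_lit 3, k51)] [(k52, nat_lit 1), (k53, nat_lit 1), (k54, nat_lit 1)]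
noncomputable def n0_5 : Net := mkNet (nat_lit 768) [(nat_lit 384, k55), (nat_lit 192, k56), (nat_lit 96, k57), (nat_lit 48, k58), (nat_lit 24, k59), (nat_lit 12, k60), (nat_lit 6, k61), (nat_lit 3, k62)] [(k63, nat_lit 1), (k64, nat_lit 1), (k65, nat_lit 1)]
noncomputable def n0_6 : Net := mkNet (nat_lit 768) [(nat_lit 384, k66), (nat_lit 192, k67), (nat_lit 96, k68), (nat_lit 48, k69), (nat_lit 24, k70), (nat_lit 12, k71), (nat_lit 6, k72), (nat_lit 3, k73)] [(k74, nat_lit 1), (k75, nat_lit 1), (k76, nat_lit 1)]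
noncomputable def n0_7 : Net := mkNet (nat_lit 768) [(nat_lit 384, k77), (nat_lit 192, k78), (nat_lit 96, k79), (nat_lit 48, k80), (nat_lit 24, k81), (nat_lit 12, k82), (nat_lit 6, k83), (nat_lit 3, k84)] [(k85, nat_lit 1), (k86, nat_lit 1), (k87, nat_lit 1)]
noncomputable def n2_0 : Net := mkNet (nat_lit 20) [(nat_lit 10, (nat_lit 0x1a068)), (nat_lit 5, (nat_lit 0x84210))] [((nat_lit 0x9000), nat_lit 1), ((nat_lit 0x50142), nat_lit 1), ((nat_lit 0x20080), nat_lit 1), ((nat_lit 0x50140), nat_lit 1), ((nat_lit 0x8000), nat_lit 1)]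
noncomputable def n2_1 : Net := mkNet (nat_lit 20) [(nat_lit 10, (nat_lit 0)), (nat_lit 5, (nat_lit 0xc618c))] [((nat_lit 0x204a0), nat_lit 1), ((nat_lit 0x50148), nat_lit 1), ((nat_lit 0x20080), nat_lit 1), ((nat_lit 0x140), nat_lit 1), ((nat_lit 0x20), nat_lit 1)]
noncomputable def n2_2 : Net := mkNet (nat_lit 20) [(nat_lit 10, (nat_lit 0x8c214)), (nat_lit 5, (nat_lit 0x6ea9c))] [((nat_lit 0xa0), nat_lit 1), ((nat_lit 0x50940), nat_lit 1), ((nat_lit 0x28480), nat_lit 1), ((nat_lit 0x50040), nat_lit 1), ((nat_lit 0x28020), nat_lit 1)]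
noncomputable def n3_0 : Net := mkNet (nat_lit 12) [(nat_lit 6, (nat_lit 0x920)), (nat_lit 3, (nat_lit 0))] [((nat_lit 0x10), nat_lit 1)]
noncomputable def n3_1 : Net := mkNet (nat_lit 12) [(nat_lit 6, (nat_lit 0xc30)), (nat_lit 3, (nat_lit 0x4b6))] [((nat_lit 0x208), nat_lit 1), ((nat_lit 0x492), nat_lit 1), ((nat_lit 0x208), nat_lit 1)]
noncomputable def n3_2 : Net := mkNet (nat_lit 12) [(nat_lit 6, (nat_lit 0x620)), (nat_lit 3, (nat_lit 0x120))] [((nat_lit 0x8), nat_lit 1), ((nat_lit 0x410), nat_lit 1), ((nat_lit 0x208), nat_lit 1)]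
noncomputable def n4_0 : Net := mkNet (nat_lit 8) [(nat_lit 4, (nat_lit 0x88)), (nat_lit 2, (nat_lit 0xa0))] [((nat_lit 0x10), nat_lit 1)]
noncomputable def n4_1 : Net := mkNet (nat_lit 8) [(nat_lit 4, (nat_lit 0x88)), (nat_lit 2, (nat_lit 0x80))] []
noncomputable def n5_0 : Net := mkNet (nat_lit 8) [(nat_lit 4, (nat_lit 0)), (nat_lit 2, (nat_lit 0))] [((nat_lit 0x10), nat_lit 1)]
noncomputable def nets0 : List Net := [n0_0, n0_1, n0_2, n0_3, n0_4, n0_5, n0_6, n0_7]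
noncomputable def nets1 : List Net := [n0_0, n0_1, n0_2, n0_3, n0_4, n0_5, n0_6]
def ws1 : List (List ℕ) := [[0],
  [1],
  [2],
  [3],
  [4],
  [5],
  [6]]
noncomputable def nets2 : List Net := [n2_0, n2_1, n2_2]
def ws2 : List (List ℕ) := [[4, 2, 3, 3, 6, 2, 4, 6],
  [5, 3, 4, 5, 4, 0, 2],
  [0, 1, 3, 3, 3]]
noncomputable def nets3 : List Net := [n3_0, n3_1, n3_2]
def ws3 : List (List ℕ) := [[0, 2, 2, 0, 2, 2, 0, 0, 0],
  [1],
  [2]]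
noncomputable def nets4 : List Net := [n4_0, n4_1]
def ws4 : List (List ℕ) := [[1, 2, 0, 2, 1],
  [2, 1, 1, 2, 0]]
noncomputable def nets5 : List Net := [n5_0]
def ws5 : List (List ℕ) := [[0, 1, 0, 0, 0]]
def sig : List (List ℕ) := [[0],
  [1],
  [2],
  [3],
  [4],
  [5],
  [6],
  [7]]
def eqs0 : List (List ℕ × List ℕ) := [([0, 0], []),
  ([1, 1], []),
  ([2, 2], []),
  ([3, 3], []),
  ([4, 4], []),
  ([5, 5], []),
  ([6, 6], []),
  ([7, 7], []),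
  ([0, 1, 0, 1], [1, 0, 1, 0]),
  ([0, 2], [2, 0]),
  ([0, 3], [3, 0]),
  ([0, 4], [4, 0]),
  ([0, 5], [5, 0]),
  ([1, 2, 1], [2, 1, 2]),
  ([1, 3, 1, 3], [3, 1, 3, 1]),
  ([1, 4], [4, 1]),
  ([1, 5], [5, 1]),
  ([2, 3], [3, 2]),
  ([2, 4, 2, 4], [4, 2, 4, 2]),
  ([2, 5], [5, 2]),
  ([3, 4, 3], [4, 3, 4]),
  ([3, 5, 3, 5], [5, 3, 5, 3]),
  ([4, 5], [5, 4]),
  ([1, 3, 1, 5, 3, 1], [5, 3, 1, 5, 3, 5]),
  ([0, 1, 0, 3, 1, 0], [3, 1, 0, 3, 1, 3]),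
  ([3, 4, 3, 5, 3], [5, 3, 5, 4]),
  ([1, 3, 1, 3, 4], [4, 3, 1, 3]),
  ([1, 2, 1, 3, 1], [3, 1, 3, 2]),
  ([0, 1, 0, 1, 2], [2, 1, 0, 1]),
  ([0, 6, 0], [6, 0, 6]),
  ([6, 1], [1, 6]),
  ([6, 3], [3, 6]),
  ([6, 4], [4, 6]),
  ([6, 5], [5, 6]),
  ([6, 0, 1, 0, 1], [0, 1, 0, 6]),
  ([5, 7, 5], [7, 5, 7]),
  ([7, 3], [3, 7]),
  ([7, 1, 7, 3, 1], [0, 1, 3, 1, 0]),
  ([7, 2, 7, 3, 1, 0], [2, 1, 0, 1, 3, 1]),
  ([7, 0, 7, 3, 4, 3], [4, 3, 1, 0, 1]),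
  ([7, 5, 3, 5, 3], [5, 3, 5, 7]),
  ([6, 7, 6], [3, 7]),
  ([0, 1, 7, 1], [7, 3, 0]),
  ([0, 4, 5, 7, 1, 4, 3, 7], [7, 1, 4, 6, 7, 4, 5]),
  ([3, 1, 7, 1], [0, 7, 0]),
  ([2, 6, 2, 6], [6, 2, 6, 2])]
def eqs : List (List ℕ × List ℕ) := eqs0
def lU : List (ℕ × ℕ) := [(0, 7), (8, 10), (20, 742)]
noncomputable def U : ℕ := ivls lU
def l1 : List (ℕ × ℕ) := [(1, 5), (8, 10), (20, 15)]
noncomputable def S1 : ℕ := ivls l1
def w1 : List ℕ := [7]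
def l2 : List (ℕ × ℕ) := [(35, 280)]
noncomputable def S2 : ℕ := ivls l2
def w2 : List ℕ := [7, 4, 7]
def l3 : List (ℕ × ℕ) := [(6, 1), (315, 447)]
noncomputable def S3 : ℕ := ivls l3
def w3 : List ℕ := [7, 4, 7, 2, 4, 7]
noncomputable def J : List (List ℕ × ℕ × ℕ) := [(w1, 1, S1), (w2, 35, S2), (w3, 6, S3)]
def lBig : List (ℕ × ℕ) := [(6, 1), (315, 447)]
noncomputable def J3 : List (List ℕ × ℕ × ℕ) := [([0], 6, S3)]
noncomputable def J2 : List (List ℕ × ℕ × ℕ) := [([0, 3, 0, 5, 0], 6, S3)]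
noncomputable def J1 : List (List ℕ × ℕ × ℕ) := [([0, 5, 3, 0, 5, 0], 6, S3)]
def ex : List (List ℕ) := [[2, 6, 3, 4, 7, 0]]
def bs' : List ℕ := [0, 6, 1, 2, 3, 4]
end CfH6.HxMA
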